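import Groth.Prelude.Def_CGrpSh
import Groth.Prelude.Def_W4c1extbt15Mult
import Mathlib.CategoryTheory.Sites.EpiMono
import Mathlib.CategoryTheory.Monoidal.Cartesian.Over

/-!
# Points lifting locally along an epimorphism of fppf sheaves
-/

set_option autoImplicit false
set_option backward.isDefEq.respectTransparency false
set_option linter.unusedSectionVars false

universe w u

open CategoryTheory CategoryTheory.Limits MonoidalCategory CartesianMonoidalCategory MonObj AlgebraicGeometry Opposite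

namespace GrothLib.MultLift16

variable {S : Scheme.{u}}

abbrev top (S : Scheme.{u}) : GrothendieckTopology (Over S) := QuotSh.J Scheme.fppfPrecoverage S

theorem hom_ext_locally {T N : Over S} {a b : T ⟶ N} {R : Sieve T} (hR : R ∈ top S T)
    (h : ∀ ⦃U : Over S⦄ (f : U ⟶ T), R f → f ≫ a = f ≫ b) : a = b :=
  ((GrothendieckTopology.Subcanonical.isSheaf_of_isRepresentable (J := top S) (yoneda.obj N)) R hR).isSeparatedFor.ext
    fun _ f hf => h f hf

theorem glue {T N : Over S} {R : Sieve T} (hR : R ∈ top S T) (c : ∀ ⦃U : Over S⦄ (f : U ⟶ T), R f → (U ⟶ N))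
    (hc : ∀ ⦃U₁ U₂ W : Over S⦄ (g₁ : W ⟶ U₁) (g₂ : W ⟶ U₂) (f₁ : U₁ ⟶ T) (f₂ : U₂ ⟶ T) (h₁ : R f₁) (h₂ : R f₂),
      g₁ ≫ f₁ = g₂ ≫ f₂ → g₁ ≫ c f₁ h₁ = g₂ ≫ c f₂ h₂) :
    ∃ a : T ⟶ N, ∀ ⦃U : Over S⦄ (f : U ⟶ T) (h : R f), f ≫ a = c f h := by
  let x : Presieve.FamilyOfElements (yoneda.obj N) R.arrows := fun U f hf => c f hf
  have hx : x.Compatible := fun U₁ U₂ W g₁ g₂ f₁ f₂ h₁ h₂ e => hc g₁ g₂ f₁ f₂ h₁ h₂ e
  obtain ⟨a, ha, -⟩ :=
    (GrothendieckTopology.Subcanonical.isSheaf_of_isRepresentable (J := top S) (yoneda.obj N)) R hR x hx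
  exact ⟨a, fun U f h => ha f h⟩

/-- A map of points which is surjective locally has the descent property of an effective epimorphism. -/
theorem descend {A B N : Over S} (p : A ⟶ B) (φ : A ⟶ N)
    (hp : ∀ (T : Over S) (y : T ⟶ B), ∃ R ∈ top S T, ∀ ⦃U : Over S⦄ (f : U ⟶ T), R f → ∃ x : U ⟶ A, x ≫ p = f ≫ y)
    (hc : ∀ (T : Over S) (a a' : T ⟶ A), a ≫ p = a' ≫ p → a ≫ φ = a' ≫ φ) :
    ∃ φ' : B ⟶ N, p ≫ φ' = φ ∧ ∀ φ'' : B ⟶ N, p ≫ φ'' = φ → φ'' = φ' := by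
  obtain ⟨R, hR, hlift⟩ := hp B (𝟙 B)
  choose x hx using hlift
  simp only [Category.comp_id] at hx
  obtain ⟨φ', hφ'⟩ := glue hR (fun U f hf => x f hf ≫ φ) fun U₁ U₂ W g₁ g₂ f₁ f₂ h₁ h₂ e => by
    rw [← Category.assoc, ← Category.assoc]
    refine hc W _ _ ?_
    rw [Category.assoc, Category.assoc, hx, hx, e]
  refine ⟨φ', hom_ext_locally ((top S).pullback_stable p hR) fun U f hf => ?_, fun φ'' h => ?_⟩
  · rw [← Category.assoc, hφ' (f ≫ p) hf]
    exact hc U _ _ (hx _ hf)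
  · refine hom_ext_locally hR fun U f hf => ?_
    rw [hφ' f hf, ← h, ← Category.assoc, hx]

variable {M M' M'' : Over S} [GrpObj M] [IsCommMonObj M] [GrpObj M'] [IsCommMonObj M'] [GrpObj M''] [IsCommMonObj M'']

theorem lift_locally (π : M ⟶ M'') [IsMonHom π] (hπ : Epi (CGrpSh.ptsMap Scheme.fppfPrecoverage π))
    (T : Over S) (y : T ⟶ M'') :
    ∃ R ∈ top S T, ∀ ⦃U : Over S⦄ (f : U ⟶ T), R f → ∃ x : U ⟶ M, x ≫ π = f ≫ y := by
  haveI : Sheaf.IsLocallySurjective (CGrpSh.ptsMap Scheme.fppfPrecoverage π) :=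
    (Sheaf.isLocallySurjective_iff_epi' _ _).2 hπ
  refine ⟨_, Presheaf.imageSieve_mem (top S) (CGrpSh.ptsMap Scheme.fppfPrecoverage π).hom (U := op T)
    (ULift.up (Additive.ofMul y)), fun U f hf => ?_⟩
  obtain ⟨v, hv⟩ := hf
  exact ⟨v.down.toMul, congrArg (fun z => z.down.toMul) hv⟩

/-- A point killed by the second map of an exact sequence comes locally from the first. -/
theorem exact_locally (j : M' ⟶ M) (π : M ⟶ M'') [IsMonHom j] [IsMonHom π] (w : j ≫ π = 1)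
    (hex : (CGrpSh.seq Scheme.fppfPrecoverage j π w).Exact) (T : Over S) (x : T ⟶ M) (hx : x ≫ π = 1) :
    ∃ R ∈ top S T, ∀ ⦃U : Over S⦄ (f : U ⟶ T), R f → ∃ z : U ⟶ M', z ≫ j = f ≫ x := by
  let C := CGrpSh.seq Scheme.fppfPrecoverage j π w
  haveI : Epi (kernel.lift C.g C.f C.zero) := (ShortComplex.exact_iff_epi_kernel_lift C).1 hex
  haveI : Sheaf.IsLocallySurjective (kernel.lift C.g C.f C.zero) :=
    (Sheaf.isLocallySurjective_iff_epi' _ _).2 inferInstance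
  have hk := (((ShortComplex.exact_kernel C.g).map_of_mono_of_preservesKernel
    (sheafToPresheaf (top S) AddCommGrpCat.{u + 1})
    (inferInstanceAs (Mono (kernel.ι C.g))) inferInstance).map ((evaluation _ _).obj (op T)))
  obtain ⟨q, hq⟩ := (ShortComplex.ab_exact_iff _).1 hk (ULift.up (Additive.ofMul x))
    (ULift.ext _ _ (congrArg Additive.ofMul hx))
  refine ⟨_, Presheaf.imageSieve_mem (top S) (kernel.lift C.g C.f C.zero).hom (U := op T) q, fun U f hf => ?_⟩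
  obtain ⟨v, hv⟩ := hf
  refine ⟨v.down.toMul, ?_⟩
  have h1 : C.f.hom.app (op U) v = C.X₂.obj.map f.op (ULift.up (Additive.ofMul x)) := by
    rw [← kernel.lift_ι C.g C.f C.zero]
    change (kernel.ι C.g).hom.app (op U) ((kernel.lift C.g C.f C.zero).hom.app (op U) v) = _
    rw [hv, NatTrans.naturality_apply]
    exact congrArg _ hq
  exact congrArg (fun z => z.down.toMul) h1

/-! ### Tuples -/

variable {n : ℕ} {A : Over S}

theorem comp_tuple {T U : Over S} (f : U ⟶ T) : ∀ {n : ℕ} (x : Fin n → (T ⟶ A)),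
    f ≫ MultSch.tuple x = MultSch.tuple fun i => f ≫ x i
  | 0, _ => toUnit_unique _ _
  | _ + 1, x => by
    change f ≫ lift (x 0) (MultSch.tuple fun i => x i.succ) = lift _ _
    rw [comp_lift, comp_tuple f fun i => x i.succ]

theorem exists_tuple {T : Over S} : ∀ {n : ℕ} (y : T ⟶ MultSch.pow A n), ∃ x : Fin n → (T ⟶ A), MultSch.tuple x = y
  | 0, y => ⟨Fin.elim0, toUnit_unique _ _⟩
  | n + 1, y => by
    obtain ⟨x, hx⟩ := exists_tuple (n := n) ((y : T ⟶ A ⊗ MultSch.pow A n) ≫ snd _ _)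
    refine ⟨Fin.cons ((y : T ⟶ A ⊗ MultSch.pow A n) ≫ fst _ _) x, ?_⟩
    change lift _ (MultSch.tuple fun i => Fin.cons (α := fun _ => T ⟶ A) _ x i.succ) = _
    simp only [Fin.cons_zero, Fin.cons_succ]
    rw [hx]
    exact lift_comp_fst_snd _

/-- The map on powers. -/
noncomputable def powMap {B : Over S} (π : A ⟶ B) : (n : ℕ) → (MultSch.pow A n ⟶ MultSch.pow B n)
  | 0 => 𝟙 _
  | n + 1 => π ⊗ₘ powMap π n

theorem tuple_powMap {B : Over S} (π : A ⟶ B) {T : Over S} : ∀ {n : ℕ} (x : Fin n → (T ⟶ A)),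
    MultSch.tuple x ≫ powMap π n = MultSch.tuple fun i => x i ≫ π
  | 0, _ => toUnit_unique _ _
  | _ + 1, x => by
    change lift (x 0) _ ≫ (π ⊗ₘ powMap π _) = lift _ _
    rw [lift_map, tuple_powMap π fun i => x i.succ]

theorem tuple_injective {T : Over S} : ∀ {n : ℕ} {x y : Fin n → (T ⟶ A)}, MultSch.tuple x = MultSch.tuple y → x = y
  | 0, _, _, _ => funext fun i => i.elim0
  | n + 1, x, y, h => by
    have h1 : lift (x 0) (MultSch.tuple fun i => x i.succ) = lift (y 0) (MultSch.tuple fun i => y i.succ) := h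
    have h0 := congrArg (· ≫ fst _ _) h1
    have hs := congrArg (· ≫ snd _ _) h1
    simp only [lift_fst, lift_snd] at h0 hs
    exact funext (Fin.cases h0 (congrFun (tuple_injective hs)))

theorem lift_tuple_locally (π : M ⟶ M'') [IsMonHom π] (hπ : Epi (CGrpSh.ptsMap Scheme.fppfPrecoverage π))
    (T : Over S) : ∀ {n : ℕ} (y : Fin n → (T ⟶ M'')),
    ∃ R ∈ top S T, ∀ ⦃U : Over S⦄ (f : U ⟶ T), R f → ∃ x : Fin n → (U ⟶ M), ∀ i, x i ≫ π = f ≫ y i
  | 0, _ => ⟨⊤, (top S).top_mem T, fun _ _ _ => ⟨Fin.elim0, fun i => i.elim0⟩⟩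
  | n + 1, y => by
    obtain ⟨R₁, hR₁, h₁⟩ := lift_locally π hπ T (y 0)
    obtain ⟨R₂, hR₂, h₂⟩ := lift_tuple_locally π hπ T fun i => y i.succ
    refine ⟨R₁ ⊓ R₂, (top S).intersection_covering hR₁ hR₂, fun U f hf => ?_⟩
    obtain ⟨x₀, hx₀⟩ := h₁ f hf.1
    obtain ⟨x, hx⟩ := h₂ f hf.2
    exact ⟨Fin.cons x₀ x, Fin.cases (by simpa using hx₀) (by simpa using hx)⟩

end GrothLib.MultLift16
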